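import Cfsg.Agent.Mrg.Omega.LFive.FrameX
import Cfsg.Agent.Mrg.Omega.Node.ELXUni
import Cfsg.Agent.Mrg.Omega.NO3S.LightFive.TwoAFacts


/-!
# `ELX K` (LightL (E) over the case (L)): the final assembly

* `LFive.FalseLF` : no `LF S P p`; **`elx_of : FalseLF → NoWFive K → ELX K`**.
-/

set_option autoImplicit false

namespace Cfsg.Agent.Omega.LFive

open Subgroup Cfsg Cfsg.Agent.ZN Cfsg.Agent.Omega.MinPar Cfsg.Agent.Omega.Frame
open Cfsg.Agent.Omega.Node.MultiOf (NLoc)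
open Cfsg.Agent.Omega.Node.MulX (SymL)
open Cfsg.Agent.Omega.Node.SymG (MulSG)
open Cfsg.Agent.Omega.NTwo (nn aa Std mem_cent cm)
open Cfsg.Agent.Omega.NO3S.Sym.Light (FiveL)

universe u

/-- There is no `LF S P p`. -/
def FalseLF : Prop :=
  ∀ (G : Type u) [Group G] [Finite G] (S : Sylow 2 G) (P : Subgroup G) (p : Fin 5 → G), ¬ LF S P p

section loc

variable {G : Type u} [Group G] [Finite G] {S : Sylow 2 G} {P K' B ZJ : Subgroup G} {ι : Type}
  {L W Z C : ι → Subgroup G} {p : Fin 5 → G}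

/-- there is a block -/
theorem elx_nonempty (hM : MulSG S P K' B ZJ L W Z C 1 2) (h : FiveL S P p) : Nonempty ι := by
  by_contra hne
  rw [not_nonempty_iff] at hne
  have := hM.fin
  have h1 := Node.MultiOf.Fg_V_le hM.fr (h.p_mem 0)
  rw [iSup_of_empty] at h1
  exact h.std.ne 0 (mem_bot.1 h1)

theorem elx_L_le (hM : MulSG S P K' B ZJ L W Z C 1 2) (h : FiveL S P p) (i : ι) :
    L i ≤ ll S P ⊓ cn p ∨ L i ≤ ll S P ⊓ ca p := by
  rcases NO3S.LightFive.Z_cases h hM i with h1 | h1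
  · exact Or.inr (le_inf (NO3S.LightFive.L_le_norm h hM i) (NO3S.LightFive.L_le_of_nn h hM h1))
  · exact Or.inl (le_inf (NO3S.LightFive.L_le_norm h hM i) (NO3S.LightFive.L_le_of_aa h hM h1))

end loc

/-- **`ELX K`** -/
theorem elx_of {K : Cls.{u}} (hF : FalseLF.{u}) (hW : Node.ELXUni.NoWFive K) : Node.CaseLPEnds.ELX K := by
  intro G _ _ hK S P B ZJ ι L W Z C A hM hN p h
  have hne := elx_nonempty hM.toG h
  have hB := NO3S.LightFive.B_eq h hM.toG
  have hZ : ∀ x : G, x ∈ ZJ ↔ x = 1 ∨ x = nn p ∨ x = aa p ∨ x = p 4 := fun x => NO3S.LightFive.mem_ZJ h hM.toG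
  exact (hF G S P p (lf_of_symL hM hN h hB (fun g hg => ⟨mem_centralizer_singleton_iff.2
    (mem_centralizer_iff.1 hg _ ((hZ _).2 (Or.inr (Or.inl rfl)))).symm, mem_centralizer_singleton_iff.2
    (mem_centralizer_iff.1 hg _ ((hZ _).2 (Or.inr (Or.inr (Or.inl rfl))))).symm⟩) (elx_L_le hM.toG h)
    fun R hR hRn hRa => Node.ELXUni.uni_of_noW hM h hB ((hZ _).2 (Or.inr (Or.inr (Or.inl rfl))))
      (hW G hK S P B ZJ ι L W Z C A hM hN p h) hR hRn hRa)).elim

end Cfsg.Agent.Omega.LFive
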