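import Cfsg.Agent.Mrg.Omega.NO3S.Sym.Light
import Cfsg.Agent.Mrg.Omega.OM.Lev.Main
import Cfsg.Agent.Mrg.Omega.ML.MinIrr


/-!
# LightL (E), `n = 5`: the common frame (`HypL` and `CaseL`)

`V = V_P` = even subsets of `{1..5}`; `p i` = the five heavy vectors (`p 4 ∈ Z(S)`), `nn p = p 0 * p 1` and
`aa p = p 2 * p 3` the two light vectors fixed by `T = Std.T S p = C_S(nn p)`.

* `cn p = C_G(n)`, `ca p = C_G(a)`, `dd p = C_G(n) ∩ C_G(a)`, `ll S P = N_G(V)`;
* **`LF S P p`** : `FiveL S P p`, `zq` (`Ω₁(Z(O₂(P))) = V`), `uni` (every `R ∈ P(C_G(n), T)` moving `a` normalises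
  `V`), `nT` (`N_G(T) ≤ N_G(V)`), `nloc` (**(E)**: `⟨D, C_L(n), C_L(a)⟩` is nonlocal);
* `LF.act`, `LF.fullL`, `LF.cent_le`, `LF.false_of_local`.
-/

set_option autoImplicit false
set_option linter.unusedSectionVars false

namespace Cfsg.Agent.Omega.LFive

open Subgroup Cfsg Cfsg.Agent.ZN Cfsg.Agent.Omega.MinPar Cfsg.Agent.Omega.Frame
open Cfsg.Agent.ZN.ChoiceSit (Syl)
open Cfsg.Agent.MinSimple.MinParabolic (IsMinPar)
open Cfsg.Agent.Omega.Node.MultiOf (NLoc)
open Cfsg.Agent.Omega.NTwo (nn aa Std mem_cent cm)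
open Cfsg.Agent.Omega.NO3S.Sym.Light (FiveL)
open scoped Pointwise

universe u

variable {G : Type u} [Group G]

/-- `C_G(n)` -/
abbrev cn (p : Fin 5 → G) : Subgroup G := centralizer ({nn p} : Set G)

/-- `C_G(a)` -/
abbrev ca (p : Fin 5 → G) : Subgroup G := centralizer ({aa p} : Set G)

/-- `D = C_G(n, a)` -/
abbrev dd (p : Fin 5 → G) : Subgroup G := cn p ⊓ ca p

/-- `L = N_G(V)` -/
abbrev ll [Finite G] (S : Sylow 2 G) (P : Subgroup G) : Subgroup G :=
  normalizer ((zl (S : Subgroup G) P : Subgroup G) : Set G)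

/-- **The common frame of LightL (E), `n = 5`.** -/
structure LF [Finite G] (S : Sylow 2 G) (P : Subgroup G) (p : Fin 5 → G) : Prop extends FiveL S P p where
  zq : zc (o2 P) = zl (S : Subgroup G) P
  uni : ∀ R : Subgroup G, IsMinPar (Std.T (S : Subgroup G) p) R → R ≤ cn p → ¬ R ≤ ca p → R ≤ ll S P
  nT : normalizer ((Std.T (S : Subgroup G) p : Subgroup G) : Set G) ≤ ll S P
  nloc : NLoc (dd p ⊔ (ll S P ⊓ cn p) ⊔ (ll S P ⊓ ca p))

namespace LF

variable [Finite G] {S : Sylow 2 G} {P : Subgroup G} {p : Fin 5 → G} (h : LF S P p)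
include h

theorem fullL (σ : Equiv.Perm (Fin 5)) : ∃ g ∈ ll S P, ∀ i, g * p i * g⁻¹ = p (σ i) := by
  obtain ⟨g, hg, h1⟩ := h.std.full σ
  exact ⟨g, le_normalizer_zl _ _ hg, h1⟩

/-- `N_G(V)` permutes the five heavy points. -/
theorem act {g : G} (hg : g ∈ ll S P) : ∃ σ : Equiv.Perm (Fin 5), ∀ i, g * p i * g⁻¹ = p (σ i) := by
  have key : ∀ i, ∃ j, g * p i * g⁻¹ = p j := by
    intro i
    have h1 : g * p i * g⁻¹ ∈ zl (S : Subgroup G) P := (mem_normalizer_iff.1 hg _).1 (h.toFive.p_mem i)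
    rcases h.toFive.elts h1 with h2 | ⟨j, h2⟩ | ⟨j, k, hjk, h2⟩
    · exfalso
      refine h.std.ne i ?_
      calc p i = g⁻¹ * (g * p i * g⁻¹) * g := by group
        _ = 1 := by rw [h2]; group
    · exact ⟨j, h2⟩
    · exfalso
      obtain ⟨k1, hk1, e1⟩ := h.toFive.heavy i
      obtain ⟨k2, hk2, e2⟩ := h.toFive.lights hjk
      refine h.toFiveL.not_conj (k2⁻¹ * g * k1) ?_
      calc k2⁻¹ * g * k1 * p 4 * (k2⁻¹ * g * k1)⁻¹ = k2⁻¹ * (g * (k1 * p 4 * k1⁻¹) * g⁻¹) * k2 := by group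
        _ = k2⁻¹ * (k2 * nn p * k2⁻¹) * k2 := by rw [e1, h2, e2]
        _ = nn p := by group
  choose f hf using key
  have hinj : Function.Injective f := by
    intro i j hij
    apply h.std.inj
    have h1 := hf i
    rw [hij, ← hf j] at h1
    exact mul_left_cancel (mul_right_cancel h1)
  exact ⟨Equiv.ofBijective f (Finite.injective_iff_bijective.1 hinj), fun i => hf i⟩

theorem cent_le : centralizer (Set.range p) ≤ ll S P := by
  intro g hg
  have h1 : g ∈ centralizer (closure (Set.range p) : Set G) := by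
    rwa [Subgroup.centralizer_closure]
  rw [← h.gen] at h1
  exact centralizer_le_normalizer _ h1

theorem kg : IsKProper G := h.ctx.kproper

/-- **The end**: no 2-group is normalised by `D`, `C_L(n)`, `C_L(a)`. -/
theorem false_of_local {R : Subgroup G} (hR : IsPGroup 2 R) (hR1 : R ≠ ⊥)
    (hD : dd p ≤ normalizer (R : Set G)) (hn : ll S P ⊓ cn p ≤ normalizer (R : Set G))
    (ha : ll S P ⊓ ca p ≤ normalizer (R : Set G)) : False :=
  hR1 (h.nloc R hR (sup_le (sup_le hD hn) ha))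

/-- no 2-group is normalised by `D` and `L = N_G(V)` -/
theorem false_of_local' {R : Subgroup G} (hR : IsPGroup 2 R) (hR1 : R ≠ ⊥)
    (hD : dd p ≤ normalizer (R : Set G)) (hL : ll S P ≤ normalizer (R : Set G)) : False :=
  h.false_of_local hR hR1 hD (inf_le_left.trans hL) (inf_le_left.trans hL)

end LF

end Cfsg.Agent.Omega.LFive
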