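import Cfsg.Agent.Mrg.Omega.LFive.Frame
import Cfsg.Agent.Mrg.Omega.NO3S.LN.Fr
import Cfsg.Agent.Mrg.Omega.NO3S.Sym.LineFive


/-!
# LightL (E), `n = 5`: the common frame `LF` for `HypL` (`MulS .. 1 2`), every stage

* `exists_frl` : the light frame `FrL` over the level of `MulS`, with `Id5` (`B = C_S(n)`, `Z = ⟨n⟩, ⟨a⟩`) and UNI+;
* `lf_of_mulS` : `LF S P p`, the hypothesis is UNI over `T` (`uni`).
-/

set_option autoImplicit false
set_option linter.unusedSectionVars false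

namespace Cfsg.Agent.Omega.LFive

open Subgroup Cfsg Cfsg.Agent.ZN Cfsg.Agent.ZN.ChoiceBase Cfsg.Agent.Omega.MinPar Cfsg.Agent.Omega.Frame
open Cfsg.Agent.ZN.ChoiceSit (Syl)
open Cfsg.Agent.MinSimple.MinParabolic (IsMinPar)
open Cfsg.Agent.Omega.Node.MultiOf (NLoc KZ FBl)
open Cfsg.Agent.Omega.Node.SymOf (MulS)
open Cfsg.Agent.Omega.FFThm (SymKM)
open Cfsg.Agent.Omega.FrameFF (cv)
open Cfsg.Agent.Omega.NTwo (nn aa Std mem_cent cm)
open Cfsg.Agent.Omega.NO3S.Sym.Light (FiveL)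
open Cfsg.Agent.Omega.NO3S.Sym.LowFive (Id5)
open Cfsg.Agent.Omega.NO3S.ESym (UniI)
open Cfsg.Agent.Omega.OM.Lev.Uni (FrL)
open Cfsg.Agent.Omega.OM.LevD (LB)
open scoped Pointwise

universe u

variable {G : Type u} [Group G] [Finite G] {S : Sylow 2 G} {P K' B ZJ : Subgroup G} {ι : Type}
  {L W Z C : ι → Subgroup G} {p : Fin 5 → G}

/-- **The light frame over the level of `MulS`.** -/
theorem exists_frl (hM : MulS S P K' B ZJ L W Z C 1 2) (h : FiveL S P p) :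
    ∃ (Xf : Subgroup G) (L' W' Z' C' A' : Fin 2 → Subgroup G),
      FrL B (o2 P) (zl (S : Subgroup G) P) Xf ZJ L' W' Z' C' A' 2 ∧ UniI B ZJ L' W' ∧
        Id5 (S : Subgroup G) B W' Z' p := by
  obtain ⟨N⟩ := hM.sym
  obtain ⟨F⟩ := ESym.Light.exists_light hM.hyp.toHypN hM.stg one_pos le_rfl N
  have := F.fi
  have lb : LB S K' B ZJ := hM.lb
  have htwo : ∀ i : F.ι, ∃ j, j ≠ i := fun i => by
    obtain ⟨j, hj, -⟩ := ESym.Light.exists_bro F.sy F.ch (by norm_num) i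
    exact ⟨j, hj⟩
  obtain ⟨e, hid⟩ := NO3S.Sym.LowFive.exists_id5 h F.frl lb.BS htwo lb.eqB
  refine ⟨F.Xf, _, _, _, _, _, NO3S.Sym.LowFive.frl_reindex F.frl e, ?_, hid⟩
  intro L' V' h'
  obtain ⟨i, h1, h2⟩ := F.uni L' V' h'
  refine ⟨e.symm i, ?_, ?_⟩
  · rw [Function.comp_apply, e.apply_symm_apply]
    exact h1
  · rw [Function.comp_apply, Function.comp_apply, e.apply_symm_apply]
    exact h2

section id5

variable {Xf : Subgroup G} {L' W' Z' C' A' : Fin 2 → Subgroup G}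
  (hf : FrL B (o2 P) (zl (S : Subgroup G) P) Xf ZJ L' W' Z' C' A' 2)
  (hid : Id5 (S : Subgroup G) B W' Z' p)
include hf hid

theorem nn_mem_ZJ : nn p ∈ ZJ := hf.Z_le 0 ((hid.Z0 _).2 (Or.inr rfl))

theorem aa_mem_ZJ : aa p ∈ ZJ := hf.Z_le 1 ((hid.Z1 _).2 (Or.inr rfl))

theorem cent_ZJ_le : centralizer (ZJ : Set G) ≤ dd p :=
  le_inf (centralizer_le (Set.singleton_subset_iff.2 (nn_mem_ZJ hf hid)))
    (centralizer_le (Set.singleton_subset_iff.2 (aa_mem_ZJ hf hid)))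

theorem L_norm (i : Fin 2) : L' i ≤ ll S P := by
  intro l hl
  refine mem_normalizer_of_cj_le ?_
  rintro _ ⟨v, hv, rfl⟩
  exact hf.LV i l hl v hv

theorem L_zero : L' 0 ≤ ll S P ⊓ ca p := by
  refine le_inf (L_norm hf hid 0) fun l hl => ?_
  have h1 : aa p ∈ C' 0 := hf.WjC 0 1 (by decide) ((hf.blk 1).ZV ((hid.Z1 _).2 (Or.inr rfl)))
  exact mem_centralizer_singleton_iff.2 (hf.LC 0 l hl _ (aa_mem_ZJ hf hid) h1)

theorem L_one : L' 1 ≤ ll S P ⊓ cn p := by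
  refine le_inf (L_norm hf hid 1) fun l hl => ?_
  have h1 : nn p ∈ C' 1 := hf.WjC 1 0 (by decide) ((hf.blk 0).ZV ((hid.Z0 _).2 (Or.inr rfl)))
  exact mem_centralizer_singleton_iff.2 (hf.LC 1 l hl _ (nn_mem_ZJ hf hid) h1)

theorem L_le (i : Fin 2) : L' i ≤ dd p ⊔ (ll S P ⊓ cn p) ⊔ (ll S P ⊓ ca p) := by
  have key : ∀ i : Fin 2, i = 0 ∨ i = 1 := by decide
  rcases key i with rfl | rfl
  · exact (L_zero hf hid).trans le_sup_right
  · exact (L_one hf hid).trans (le_sup_right.trans le_sup_left)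

/-- `⟨C_G(Z_J), all blocks⟩ ≤ ⟨D, C_L(n), C_L(a)⟩` -/
theorem KZ_le (uni : UniI B ZJ L' W') : KZ B ZJ ≤ dd p ⊔ (ll S P ⊓ cn p) ⊔ (ll S P ⊓ ca p) := by
  have hD : centralizer (ZJ : Set G) ≤ dd p ⊔ (ll S P ⊓ cn p) ⊔ (ll S P ⊓ ca p) :=
    (cent_ZJ_le hf hid).trans (le_sup_left.trans le_sup_left)
  refine sup_le hD (iSup_le fun i => ?_)
  obtain ⟨j, -, h1⟩ := uni _ _ i.2
  refine h1.trans (sup_le (L_le hf hid j) ((centralizer_le ?_).trans hD))
  exact SetLike.coe_subset_coe.2 le_sup_right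

/-- `N_G(T) ≤ N_G(V)` -/
theorem nT {K' : Subgroup G} (lb : LB S K' B ZJ) (uni : UniI B ZJ L' W') :
    normalizer ((Std.T (S : Subgroup G) p : Subgroup G) : Set G) ≤ ll S P := by
  rw [← hid.BT]
  intro g hg
  have hV : zl (S : Subgroup G) P = ⨆ i, W' i :=
    le_antisymm (Node.MultiOf.Fg_V_le (OM.Lev.Main.toFg hf)) (iSup_le hf.WV)
  have hblk : ∀ i, FBl B (L' i) (W' i) := fun i =>
    ⟨⟨_, _, hf.blk i⟩, (hf.blk i).toBlock (hf.cardZ i) lb.Bp lb.weakNormal⟩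
  refine mem_normalizer_of_cj_le ?_
  rw [hV]
  change Subgroup.map _ _ ≤ _
  rw [Subgroup.map_iSup]
  refine iSup_le fun i => ?_
  obtain ⟨j, hj, -⟩ := uni _ _ ((hblk i).conj hg)
  exact (le_of_eq hj).trans (le_iSup W' j)

end id5

/-- **`LF S P p` for `HypL`** (every stage), from UNI over `T`. -/
theorem lf_of_mulS (hM : MulS S P K' B ZJ L W Z C 1 2) (hN : NLoc (KZ B ZJ)) (h : FiveL S P p)
    (uni : ∀ R : Subgroup G, IsMinPar (Std.T (S : Subgroup G) p) R → R ≤ cn p → ¬ R ≤ ca p → R ≤ ll S P) :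
    LF S P p := by
  obtain ⟨Xf, L', W', Z', C', A', hf, hu, hid⟩ := exists_frl hM h
  exact { toFiveL := h
          zq := NO3S.LN.zcQ hM
          uni := uni
          nT := nT hf hid hM.lb hu
          nloc := hN.mono (KZ_le hf hid hu) }

end Cfsg.Agent.Omega.LFive
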